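import Mathlib

/-!
# Ideals of `k[x_1..x_n]` invariant under elementary shears (helper8)

`shear i g` is the `k`-algebra endomorphism `x_i ↦ x_i + g`.  If an ideal `I` is stable under
infinitely many shears in direction `i` whose translation parts take pairwise distinct values at a
`D`-valued point, then `I` also vanishes at the point where the `i`-th coordinate is replaced by an
indeterminate (`freeing`).
-/

set_option autoImplicit false
universe u
open MvPolynomial

namespace Groth.Agent.H8.ElemAut

variable {k : Type u} [Field k] {n : ℕ}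

/-- `x_i ↦ x_i + g` -/
noncomputable def shear (i : Fin n) (g : MvPolynomial (Fin n) k) :
    MvPolynomial (Fin n) k →ₐ[k] MvPolynomial (Fin n) k :=
  MvPolynomial.aeval (Function.update MvPolynomial.X i (MvPolynomial.X i + g))

theorem shear_X_self (i : Fin n) (g : MvPolynomial (Fin n) k) : shear i g (X i) = X i + g := by
  simp [shear]

theorem shear_X_of_ne (i : Fin n) (g : MvPolynomial (Fin n) k) {l : Fin n} (hl : l ≠ i) :
    shear i g (X l) = X l := by
  simp [shear, Function.update_of_ne hl]

variable {D : Type u} [CommRing D] [Algebra k D]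

variable (k) in
/-- the point with coordinates in `S` replaced by indeterminates. -/
noncomputable def Phi (a : Fin n → D) (S : Finset (Fin n)) :
    MvPolynomial (Fin n) k →ₐ[k] MvPolynomial (Fin n) D :=
  MvPolynomial.aeval (fun l => if l ∈ S then MvPolynomial.X l else MvPolynomial.C (a l))

theorem Phi_X_mem (a : Fin n → D) (S : Finset (Fin n)) {l : Fin n} (hl : l ∈ S) :
    Phi k a S (X l) = X l := by
  simp [Phi, hl]

theorem Phi_X_notMem (a : Fin n → D) (S : Finset (Fin n)) {l : Fin n} (hl : l ∉ S) :
    Phi k a S (X l) = C (a l) := by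
  simp [Phi, hl]

theorem Phi_empty (a : Fin n → D) (φ : MvPolynomial (Fin n) k →ₐ[k] D) (ha : ∀ l, φ (X l) = a l)
    (f : MvPolynomial (Fin n) k) : Phi k a ∅ f = C (φ f) := by
  have h : Phi k a ∅ = (IsScalarTower.toAlgHom k D (MvPolynomial (Fin n) D)).comp φ := by
    apply MvPolynomial.algHom_ext
    intro l
    rw [Phi_X_notMem a ∅ (Finset.notMem_empty l), AlgHom.comp_apply, ha]
    rfl
  rw [h]
  rfl

theorem Phi_univ_injective [Nontrivial D] (a : Fin n → D) :
    Function.Injective (Phi k a Finset.univ) := by
  have h : ∀ f, Phi k a Finset.univ f = MvPolynomial.map (algebraMap k D) f := by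
    intro f
    have h1 : (Phi k a Finset.univ).toRingHom = MvPolynomial.map (algebraMap k D) := by
      apply MvPolynomial.ringHom_ext
      · intro r
        simp [Phi]
      · intro l
        simp [Phi]
    exact congrArg (fun h => h f) h1
  intro f g hfg
  rw [h, h] at hfg
  exact MvPolynomial.map_injective _ (algebraMap k D).injective hfg

variable [IsDomain D]

theorem freeing (I : Ideal (MvPolynomial (Fin n) k)) (a : Fin n → D) (S : Finset (Fin n))
    (i : Fin n) (G : Set (MvPolynomial (Fin n) k))
    (hG : ∀ g ∈ G, ∀ f ∈ I, shear i g f ∈ I)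
    (hinf : (Phi k a S '' G).Infinite) (hS : ∀ f ∈ I, Phi k a S f = 0) :
    ∀ f ∈ I, Phi k a (insert i S) f = 0 := by
  classical
  intro f hf
  obtain ⟨F, hF⟩ : ∃ F : MvPolynomial (Fin n) k →ₐ[k] Polynomial (MvPolynomial (Fin n) D),
      F = MvPolynomial.aeval (R := k) (Function.update
        (fun l => (Polynomial.C (Phi k a S (MvPolynomial.X l)) :
          Polynomial (MvPolynomial (Fin n) D))) i Polynomial.X) := ⟨_, rfl⟩
  have hFi : F (X i) = Polynomial.X := by simp [hF]
  have hFl : ∀ l, l ≠ i → F (X l) = Polynomial.C (Phi k a S (X l)) := fun l hl => by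
    simp [hF, Function.update_of_ne hl]
  have key : ∀ (g : MvPolynomial (Fin n) k) (f : MvPolynomial (Fin n) k),
      Polynomial.eval (Phi k a S (X i) + Phi k a S g) (F f) = Phi k a S (shear i g f) := by
    intro g f
    have h1 : ((Polynomial.aeval (Phi k a S (X i) + Phi k a S g)).restrictScalars k).comp F =
        (Phi k a S).comp (shear i g) := by
      apply MvPolynomial.algHom_ext
      intro l
      by_cases hl : l = i
      · subst hl
        simp [hFi, shear_X_self]
      · simp [hFl l hl, shear_X_of_ne i g hl]
    have h2 := congrArg (fun h => h f) h1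
    simpa [Polynomial.aeval_def, Polynomial.eval₂_eq_eval_map] using h2
  have h0 : F f = 0 := by
    apply Polynomial.eq_zero_of_infinite_isRoot
    refine Set.Infinite.mono ?_ (hinf.image (f := fun y => Phi k a S (X i) + y)
      (fun y _ y' _ h => add_left_cancel h))
    rintro _ ⟨_, ⟨g, hg, rfl⟩, rfl⟩
    show Polynomial.IsRoot (F f) _
    rw [Polynomial.IsRoot.def, key, hS _ (hG g hg f hf)]
  have key2 : ∀ f : MvPolynomial (Fin n) k,
      Phi k a (insert i S) f = Polynomial.eval (X i) (F f) := by
    intro f
    have h1 : Phi k a (insert i S) =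
        ((Polynomial.aeval (X i : MvPolynomial (Fin n) D)).restrictScalars k).comp F := by
      apply MvPolynomial.algHom_ext
      intro l
      by_cases hl : l = i
      · subst hl
        simp [hFi, Phi_X_mem a (insert l S) (Finset.mem_insert_self l S)]
      · by_cases hlS : l ∈ S
        · simp [hFl l hl, Phi_X_mem a S hlS,
            Phi_X_mem a (insert i S) (Finset.mem_insert_of_mem hlS)]
        · have hl' : l ∉ insert i S := by
            rw [Finset.mem_insert]; push_neg; exact ⟨hl, hlS⟩
          simp [hFl l hl, Phi_X_notMem a S hlS, Phi_X_notMem a (insert i S) hl']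
    have h2 := congrArg (fun h => h f) h1
    simpa [Polynomial.aeval_def, Polynomial.eval₂_eq_eval_map] using h2
  rw [key2, h0, Polynomial.eval_zero]

end Groth.Agent.H8.ElemAut
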