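import Groth.Agent.Lib.Helper8.ElemAut.Free

/-!
# Open subsets of affine space invariant under elementary shears (helper8)
-/

set_option autoImplicit false
universe u
open MvPolynomial

namespace Groth.Agent.H8.ElemAut

variable {k : Type u} [Field k] {n : ℕ}

/-- stability under all elementary shears `x_i ↦ x_i + x_j ^ d`. -/
def Stable (I : Ideal (MvPolynomial (Fin n) k)) : Prop :=
  ∀ (i j : Fin n), i ≠ j → ∀ (d : ℕ) (f : MvPolynomial (Fin n) k), f ∈ I →
    shear i (X j ^ d) f ∈ I

theorem stable_translate {I : Ideal (MvPolynomial (Fin n) k)} (hI : Stable I) {i j : Fin n}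
    (hij : i ≠ j) (m : ℕ) : ∀ f ∈ I, shear i (C (m : k)) f ∈ I := by
  induction m with
  | zero =>
    intro f hf
    have h : shear i (C ((0 : ℕ) : k)) = AlgHom.id k (MvPolynomial (Fin n) k) := by
      apply MvPolynomial.algHom_ext
      intro l
      by_cases hl : l = i
      · subst hl
        simp [shear_X_self]
      · simp [shear_X_of_ne i _ hl]
    rw [h]
    exact hf
  | succ m ih =>
    intro f hf
    have h : shear i (C ((m + 1 : ℕ) : k)) =
        (shear i (C (m : k))).comp (shear i (X j ^ 0)) := by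
      apply MvPolynomial.algHom_ext
      intro l
      by_cases hl : l = i
      · subst hl
        simp [shear_X_self, add_assoc]
      · simp [shear_X_of_ne i _ hl]
    rw [h]
    exact ih _ (hI i j hij 0 f hf)

section Key

variable {D : Type u} [CommRing D] [IsDomain D] [Algebra k D]

theorem X_pow_injective (D : Type u) [CommRing D] [Nontrivial D] (i : Fin n) :
    Function.Injective fun d : ℕ => (X i ^ d : MvPolynomial (Fin n) D) := by
  intro d d' h
  have := congrArg MvPolynomial.totalDegree h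
  simpa [MvPolynomial.totalDegree_X_pow] using this

theorem eq_bot_of_generic (hn : 2 ≤ n) {I : Ideal (MvPolynomial (Fin n) k)} (hI : Stable I)
    (φ : MvPolynomial (Fin n) k →ₐ[k] D) (hφ : ∀ f ∈ I, φ f = 0) (j : Fin n)
    (hinf : (Set.range fun d : ℕ => φ (X j) ^ d).Infinite) : I = ⊥ := by
  classical
  obtain ⟨a, ha⟩ : ∃ a : Fin n → D, ∀ l, φ (X l) = a l := ⟨fun l => φ (X l), fun l => rfl⟩
  rw [ha j] at hinf
  have step1 : ∀ S : Finset (Fin n), j ∉ S → ∀ f ∈ I, Phi k a S f = 0 := by
    intro S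
    induction S using Finset.induction_on with
    | empty =>
      intro _ f hf
      rw [Phi_empty a φ ha, hφ f hf, map_zero]
    | insert i S hiS ih =>
      intro hj
      rw [Finset.mem_insert, not_or] at hj
      have hij : i ≠ j := fun h => hj.1 h.symm
      refine freeing I a S i (Set.range fun d : ℕ => (X j ^ d : MvPolynomial (Fin n) k))
        ?_ ?_ (ih hj.2)
      · rintro _ ⟨d, rfl⟩ f hf
        exact hI i j hij d f hf
      · have h1 : Phi k a S '' (Set.range fun d : ℕ => (X j ^ d : MvPolynomial (Fin n) k)) =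
            (C : D → MvPolynomial (Fin n) D) '' (Set.range fun d : ℕ => a j ^ d) := by
          ext y
          constructor
          · rintro ⟨_, ⟨d, rfl⟩, rfl⟩
            refine ⟨a j ^ d, ⟨d, rfl⟩, ?_⟩
            show C (a j ^ d) = Phi k a S (X j ^ d)
            rw [map_pow (Phi k a S), Phi_X_notMem a S hj.2, ← map_pow]
          · rintro ⟨_, ⟨d, rfl⟩, rfl⟩
            refine ⟨X j ^ d, ⟨d, rfl⟩, ?_⟩
            show Phi k a S (X j ^ d) = C (a j ^ d)
            rw [map_pow (Phi k a S), Phi_X_notMem a S hj.2, ← map_pow]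
        rw [h1]
        exact hinf.image (MvPolynomial.C_injective (Fin n) D).injOn
  have step2 : ∀ f ∈ I, Phi k a (Finset.univ.erase j) f = 0 :=
    step1 _ (Finset.notMem_erase j _)
  obtain ⟨i₁, hi₁⟩ : ∃ i₁ : Fin n, i₁ ≠ j := by
    by_cases h0 : j = ⟨0, by omega⟩
    · exact ⟨⟨1, by omega⟩, fun h => by rw [h0] at h; simp [Fin.ext_iff] at h⟩
    · exact ⟨⟨0, by omega⟩, fun h => h0 h.symm⟩
  have hi₁S : i₁ ∈ Finset.univ.erase j := Finset.mem_erase.mpr ⟨hi₁, Finset.mem_univ _⟩
  have step3 : ∀ f ∈ I, Phi k a (insert j (Finset.univ.erase j)) f = 0 := by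
    refine freeing I a _ j (Set.range fun d : ℕ => (X i₁ ^ d : MvPolynomial (Fin n) k))
      ?_ ?_ step2
    · rintro _ ⟨d, rfl⟩ f hf
      exact hI j i₁ hi₁.symm d f hf
    · have h1 : Phi k a (Finset.univ.erase j) ''
          (Set.range fun d : ℕ => (X i₁ ^ d : MvPolynomial (Fin n) k)) =
          Set.range fun d : ℕ => (X i₁ ^ d : MvPolynomial (Fin n) D) := by
        ext y
        constructor
        · rintro ⟨_, ⟨d, rfl⟩, rfl⟩
          exact ⟨d, by rw [map_pow, Phi_X_mem a _ hi₁S]⟩
        · rintro ⟨d, rfl⟩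
          exact ⟨X i₁ ^ d, ⟨d, rfl⟩, by rw [map_pow, Phi_X_mem a _ hi₁S]⟩
      rw [h1]
      exact Set.infinite_range_of_injective (X_pow_injective D i₁)
  rw [Finset.insert_erase (Finset.mem_univ j)] at step3
  rw [eq_bot_iff]
  intro f hf
  rw [Ideal.mem_bot]
  apply Phi_univ_injective a
  rw [step3 f hf, map_zero]

theorem eq_bot_of_charZero [CharZero k] (hn : 2 ≤ n) {I : Ideal (MvPolynomial (Fin n) k)}
    (hI : Stable I) (φ : MvPolynomial (Fin n) k →ₐ[k] D) (hφ : ∀ f ∈ I, φ f = 0) : I = ⊥ := by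
  classical
  obtain ⟨a, ha⟩ : ∃ a : Fin n → D, ∀ l, φ (X l) = a l := ⟨fun l => φ (X l), fun l => rfl⟩
  haveI : CharZero (MvPolynomial (Fin n) D) :=
    charZero_of_injective_algebraMap (algebraMap k (MvPolynomial (Fin n) D)).injective
  have step1 : ∀ S : Finset (Fin n), ∀ f ∈ I, Phi k a S f = 0 := by
    intro S
    induction S using Finset.induction_on with
    | empty =>
      intro f hf
      rw [Phi_empty a φ ha, hφ f hf, map_zero]
    | insert i S hiS ih =>
      obtain ⟨j, hij⟩ : ∃ j : Fin n, i ≠ j := by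
        by_cases h0 : i = ⟨0, by omega⟩
        · exact ⟨⟨1, by omega⟩, fun h => by rw [h0] at h; simp [Fin.ext_iff] at h⟩
        · exact ⟨⟨0, by omega⟩, h0⟩
      refine freeing I a S i (Set.range fun m : ℕ => (C (m : k) : MvPolynomial (Fin n) k))
        ?_ ?_ ih
      · rintro _ ⟨m, rfl⟩ f hf
        exact stable_translate hI hij m f hf
      · have h1 : Phi k a S '' (Set.range fun m : ℕ => (C (m : k) : MvPolynomial (Fin n) k)) =
            Set.range fun m : ℕ => ((m : ℕ) : MvPolynomial (Fin n) D) := by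
          ext y
          constructor
          · rintro ⟨_, ⟨m, rfl⟩, rfl⟩
            exact ⟨m, by simp [Phi]⟩
          · rintro ⟨m, rfl⟩
            exact ⟨C (m : k), ⟨m, rfl⟩, by simp [Phi]⟩
        rw [h1]
        exact Set.infinite_range_of_injective Nat.cast_injective
  rw [eq_bot_iff]
  intro f hf
  rw [Ideal.mem_bot]
  apply Phi_univ_injective a
  rw [step1 _ f hf, map_zero]

end Key

theorem eq_zero_of_pow_eq_zero' {D : Type u} [CommRing D] [IsDomain D] {a : D} {m : ℕ}
    (h : a ^ m = 0) : a = 0 := by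
  induction m with
  | zero => rw [pow_zero] at h; exact absurd h one_ne_zero
  | succ m ih =>
    rw [pow_succ] at h
    rcases mul_eq_zero.mp h with h' | h'
    · exact ih h'
    · exact h'

theorem pow_char_pow_eq_self {D : Type u} [CommRing D] [IsDomain D] (p : ℕ) (hp : p.Prime)
    [CharP D p] (a : D) {d d' : ℕ} (hdd : d < d') (h : a ^ d = a ^ d') :
    ∃ m : ℕ, 0 < m ∧ a ^ (p ^ m) = a := by
  haveI : Fact p.Prime := ⟨hp⟩
  by_cases ha : a = 0
  · exact ⟨1, Nat.one_pos, by rw [ha, zero_pow (pow_ne_zero 1 hp.ne_zero)]⟩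
  obtain ⟨c, hc, rfl⟩ : ∃ c, 0 < c ∧ d' = d + c := ⟨d' - d, by omega, by omega⟩
  have h1 : a ^ c = 1 := by
    rw [pow_add] at h
    have h2 : a ^ d * (a ^ c - 1) = 0 := by rw [mul_sub, mul_one, ← h, sub_self]
    rcases mul_eq_zero.mp h2 with h3 | h3
    · exact (ha (eq_zero_of_pow_eq_zero' h3)).elim
    · exact sub_eq_zero.mp h3
  obtain ⟨s, c', hc', rfl⟩ := Nat.exists_eq_pow_mul_and_not_dvd hc.ne' p hp.ne_one
  have h2 : a ^ c' = 1 := by
    have h3 : (a ^ c' - 1) ^ p ^ s = 0 := by
      rw [sub_pow_char_pow, one_pow, ← pow_mul, mul_comm, h1, sub_self]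
    exact sub_eq_zero.mp (eq_zero_of_pow_eq_zero' h3)
  have hc'pos : 0 < c' := by
    rcases Nat.eq_zero_or_pos c' with h0 | h0
    · rw [h0] at hc'; exact absurd (dvd_zero p) hc'
    · exact h0
  have hcop : Nat.Coprime p c' := (Nat.Prime.coprime_iff_not_dvd hp).mpr hc'
  have h3 := Nat.ModEq.pow_totient hcop
  have hm : 0 < Nat.totient c' := Nat.totient_pos.mpr hc'pos
  refine ⟨Nat.totient c', hm, ?_⟩
  have h4 : c' ∣ p ^ Nat.totient c' - 1 :=
    (Nat.modEq_iff_dvd' (Nat.one_le_pow _ _ hp.pos)).mp h3.symm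
  obtain ⟨q, hq⟩ := h4
  have h5 : p ^ Nat.totient c' = c' * q + 1 := by
    have := Nat.one_le_pow (Nat.totient c') p hp.pos
    omega
  rw [h5, pow_succ, pow_mul, h2, one_pow, one_mul]

section Geometry

open PrimeSpectrum

theorem isIntegral_quotient_of_gens (P : Ideal (MvPolynomial (Fin n) k))
    (h : ∀ i, IsIntegral k (Ideal.Quotient.mk P (X i))) :
    Algebra.IsIntegral k (MvPolynomial (Fin n) k ⧸ P) := by
  refine ⟨fun y => ?_⟩
  obtain ⟨f, rfl⟩ := Ideal.Quotient.mk_surjective y
  induction f using MvPolynomial.induction_on with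
  | C r => exact isIntegral_algebraMap (R := k) (A := MvPolynomial (Fin n) k ⧸ P) (x := r)
  | add f g hf hg => rw [map_add]; exact hf.add hg
  | mul_X f i hf => rw [map_mul]; exact hf.mul (h i)

theorem main_ideal (hn : 2 ≤ n) (I : Ideal (MvPolynomial (Fin n) k)) (hI : Stable I)
    (hne : I ≠ ⊥) :
    zeroLocus (I : Set (MvPolynomial (Fin n) k)) = ∅ ∨
      ∃ p : ℕ, p.Prime ∧ CharP k p ∧ (zeroLocus (I : Set (MvPolynomial (Fin n) k))).Finite ∧
        ∀ x ∈ zeroLocus (I : Set (MvPolynomial (Fin n) k)), x.asIdeal.IsMaximal ∧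
          ∀ i : Fin n, ∃ m : ℕ, 0 < m ∧
            (X i : MvPolynomial (Fin n) k) ^ (p ^ m) - X i ∈ x.asIdeal := by
  obtain ⟨p, hchar⟩ := CharP.exists k
  -- the quotient point
  have hpt : ∀ x ∈ zeroLocus (I : Set (MvPolynomial (Fin n) k)),
      ∀ f ∈ I, Ideal.Quotient.mkₐ k x.asIdeal f = 0 := by
    intro x hx f hf
    exact Ideal.Quotient.eq_zero_iff_mem.mpr (hx hf)
  rcases CharP.char_is_prime_or_zero k p with hp | hp0
  · by_cases hZ : zeroLocus (I : Set (MvPolynomial (Fin n) k)) = ∅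
    · exact Or.inl hZ
    refine Or.inr ⟨p, hp, hchar, ?_⟩
    have hcoord : ∀ x ∈ zeroLocus (I : Set (MvPolynomial (Fin n) k)), ∀ i : Fin n,
        ∃ m : ℕ, 0 < m ∧ (X i : MvPolynomial (Fin n) k) ^ (p ^ m) - X i ∈ x.asIdeal := by
      intro x hx i
      haveI : CharP (MvPolynomial (Fin n) k ⧸ x.asIdeal) p :=
        charP_of_injective_algebraMap
          (algebraMap k (MvPolynomial (Fin n) k ⧸ x.asIdeal)).injective p
      have hfin : ¬ (Set.range fun d : ℕ =>
          (Ideal.Quotient.mkₐ k x.asIdeal) (X i) ^ d).Infinite := fun hinf =>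
        hne (eq_bot_of_generic hn hI (Ideal.Quotient.mkₐ k x.asIdeal) (hpt x hx) i hinf)
      have hninj : ¬ Function.Injective fun d : ℕ =>
          (Ideal.Quotient.mkₐ k x.asIdeal) (X i) ^ d := fun hinj =>
        hfin (Set.infinite_range_of_injective hinj)
      rw [Function.Injective] at hninj
      push_neg at hninj
      obtain ⟨d, d', hdd, hne'⟩ := hninj
      obtain ⟨m, hm, hm'⟩ : ∃ m : ℕ, 0 < m ∧
          (Ideal.Quotient.mkₐ k x.asIdeal) (X i) ^ (p ^ m) =
            (Ideal.Quotient.mkₐ k x.asIdeal) (X i) := by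
        rcases lt_or_gt_of_ne hne' with hlt | hlt
        · exact pow_char_pow_eq_self p hp _ hlt hdd
        · exact pow_char_pow_eq_self p hp _ hlt hdd.symm
      refine ⟨m, hm, ?_⟩
      rw [← Ideal.Quotient.eq_zero_iff_mem, map_sub, map_pow]
      exact sub_eq_zero.mpr hm'
    have hmax : ∀ x ∈ zeroLocus (I : Set (MvPolynomial (Fin n) k)), x.asIdeal.IsMaximal := by
      intro x hx
      haveI : Algebra.IsIntegral k (MvPolynomial (Fin n) k ⧸ x.asIdeal) := by
        apply isIntegral_quotient_of_gens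
        intro i
        obtain ⟨m, hm, hm'⟩ := hcoord x hx i
        refine ⟨Polynomial.X ^ (p ^ m) - Polynomial.X, ?_, ?_⟩
        · apply Polynomial.monic_X_pow_sub
          rw [Polynomial.degree_X]
          have : 2 ≤ p ^ m := by
            calc 2 ≤ p := hp.two_le
              _ = p ^ 1 := (pow_one p).symm
              _ ≤ p ^ m := Nat.pow_le_pow_right hp.pos hm
          exact_mod_cast this
        · rw [Polynomial.eval₂_sub, Polynomial.eval₂_pow, Polynomial.eval₂_X, ← map_pow,
            ← map_sub]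
          exact Ideal.Quotient.eq_zero_iff_mem.mpr hm'
      exact Ideal.Quotient.maximal_of_isField _
        (isField_of_isIntegral_of_isField' (Field.toIsField k))
    refine ⟨?_, fun x hx => ⟨hmax x hx, hcoord x hx⟩⟩
    have hsub : zeroLocus (I : Set (MvPolynomial (Fin n) k)) ⊆
        PrimeSpectrum.asIdeal ⁻¹' I.minimalPrimes := by
      intro x hx
      obtain ⟨q, hq, hqx⟩ := Ideal.exists_minimalPrimes_le (show I ≤ x.asIdeal from hx)
      haveI : q.IsPrime := hq.1.1
      have hqZ : (⟨q, inferInstance⟩ : PrimeSpectrum (MvPolynomial (Fin n) k)) ∈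
          zeroLocus (I : Set (MvPolynomial (Fin n) k)) := hq.1.2
      have hqmax : q.IsMaximal := hmax _ hqZ
      have : q = x.asIdeal := hqmax.eq_of_le x.isPrime.ne_top hqx
      show x.asIdeal ∈ I.minimalPrimes
      rw [← this]
      exact hq
    exact ((Ideal.finite_minimalPrimes_of_isNoetherianRing _ I).preimage
      (fun x _ y _ h => PrimeSpectrum.ext h)).subset hsub
  · subst hp0
    haveI : CharZero k := CharP.charP_to_charZero k
    left
    by_contra hZ
    obtain ⟨x, hx⟩ := Set.nonempty_iff_ne_empty.mpr hZ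
    exact hne (eq_bot_of_charZero hn hI (Ideal.Quotient.mkₐ k x.asIdeal) (hpt x hx))

end Geometry

end Groth.Agent.H8.ElemAut
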